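import Cfsg.Agent.H316.U6
import Cfsg.Agent.H795.RowsA

/-!
# Toral elementary abelian subgroups (hub H9, U4; helper508)

`m : MData hp r q K₀`, `E ≤ K₀` elementary abelian of order `p ^ 2`, `p ≠ r`.

* `toral_of_tors` : `p ^ 2 ∤ |W|` and the `Tors` certificate: `E` is toral;
* `toral_five` : `5 ≤ p`, not `p = 5` in type `E₈`.
-/

set_option autoImplicit false

namespace Cfsg.Agent.H508.Tor

open CoxeterSystem Cfsg Cfsg.Lie Cfsg.Lie.ChevalleyDatum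
open Cfsg.Agent.Nodes.RGDChev Cfsg.Agent.H795.SetTor Cfsg.Agent.H795.TorSub Cfsg.Agent.H795.RowsA
open Cfsg.Agent.H469.Exc Cfsg.Agent.H316.U6

universe v

variable {D : ChevalleyDatum} {l : ℕ} {M : CoxeterMatrix (Fin l)} {hp : IsType D l M} {r q : ℕ}
  [hr : Fact r.Prime] {K₀ : Type v} [Group K₀]

theorem toral_of_tors (m : MData hp r q K₀) {p : ℕ} (hpp : p.Prime) (hpr : p ≠ r)
    (hW : ¬ p ^ 2 ∣ Nat.card M.Group) (hT : Tors M.toCoxeterSystem hp.isCartan p) {E : Subgroup K₀}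
    (hE : IsElementaryAbelian p E) (hE2 : Nat.card ↥E = p ^ 2) : Toral m p := by
  have hfin : Finite K₀ := m.finite
  have hpf : Fact p.Prime := ⟨hpp⟩
  have hc := hE.1
  have hab : ∀ a ∈ E, ∀ b ∈ E, a * b = b * a := fun a ha b hb =>
    congrArg Subtype.val (hc.is_comm.comm (⟨a, ha⟩ : ↥E) ⟨b, hb⟩)
  have hpow : ∀ a ∈ E, a ^ p = 1 := fun a ha => hE.2 a ha
  have hfinS : Finite ↥(E.map m.ι) :=
    Finite.of_surjective _ (m.ι.subgroupMap_surjective E)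
  have hS : IsPGroup p ↥(E.map m.ι) := (IsPGroup.of_card (n := 2) hE2).map _
  obtain ⟨z, hz⟩ := exists_toral_abelian hp r (locFin r) hpp hpr hW hT hS (by
    rintro _ ⟨a, ha, rfl⟩ _ ⟨b, hb, rfl⟩
    rw [← map_mul, ← map_mul, hab a ha b hb])
  exact ⟨E, hpow, hab, hE2, z, fun a ha => hz _ ⟨a, ha, rfl⟩⟩

theorem card_B2 : Nat.card (CoxeterMatrix.B 2).Group = 8 :=
  S1092.result (⟨2, CoxeterMatrix.B 2⟩, 8) (by simp)

/-- the certificates for `5 ≤ p` -/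
theorem tors_five (hp : IsType D l M) {p : ℕ} (hpp : p.Prime) (h5 : 5 ≤ p) (h8 : D = chevE8 → p ≠ 5) :
    ¬ p ^ 2 ∣ Nat.card M.Group ∧ Tors M.toCoxeterSystem hp.isCartan p := by
  have := finW hp
  have hsmall : ∀ n, Nat.card M.Group = n → ¬ p ∣ n →
      ¬ p ^ 2 ∣ Nat.card M.Group ∧ Tors M.toCoxeterSystem hp.isCartan p := by
    rintro n rfl h
    exact ⟨fun h1 => h ((dvd_pow_self p two_ne_zero).trans h1), tors_of_not_dvd h⟩
  have h := hp
  simp only [IsType, typeList, List.mem_cons, List.not_mem_nil, or_false, Prod.mk.injEq] at h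
  rcases h with ⟨rfl, h⟩ | ⟨rfl, h⟩ | ⟨rfl, h⟩ | ⟨rfl, h⟩ | ⟨rfl, h⟩ | ⟨rfl, h⟩ | ⟨rfl, h⟩
  all_goals cases h
  · exact hsmall 12 card_G2 (not_dvd_12 hpp h5)
  · exact hsmall 8 card_B2 fun h1 => not_dvd_192 hpp h5 (h1.trans (by norm_num))
  · exact hsmall 192 card_D4 (not_dvd_192 hpp h5)
  · exact hsmall 1152 card_F4 (not_dvd_1152 hpp h5)
  · exact torsE6 hp hpp h5
  · exact torsE7 hp hpp h5
  · exact torsE8 hp hpp h5 (h8 rfl)

/-- **`5 ≤ p`, not `p = 5` in type `E₈`.** -/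
theorem toral_five (m : MData hp r q K₀) {p : ℕ} (hpp : p.Prime) (h5 : 5 ≤ p) (h8 : D = chevE8 → p ≠ 5)
    (hpr : p ≠ r) {E : Subgroup K₀} (hE : IsElementaryAbelian p E) (hE2 : Nat.card ↥E = p ^ 2) : Toral m p :=
  toral_of_tors m hpp hpr (tors_five hp hpp h5 h8).1 (tors_five hp hpp h5 h8).2 hE hE2

end Cfsg.Agent.H508.Tor
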